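import Mathlib

/-! # Irreducible linear maps over a finite field

`A` an endomorphism of the finite-dimensional space `W` over the finite field `F` with no proper nonzero invariant
subspace, `m = minpoly F A`.

* `irreducible_minpoly` : `m` is irreducible;
* `exists_equiv` : if `m(B) = 0` then `g A = B g` for some linear automorphism `g` fixing a given nonzero vector;
* `exists_det` : there is a polynomial in `A`, invertible, with any prescribed nonzero determinant. -/

set_option autoImplicit false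

namespace Cfsg.Agent.H27.Psl

open Polynomial Module

/-- `A` has no proper nonzero invariant subspace. -/
def Irr {F W : Type*} [Field F] [AddCommGroup W] [Module F W] (A : W →ₗ[F] W) : Prop :=
  ∀ U : Submodule F W, (∀ u ∈ U, A u ∈ U) → U = ⊥ ∨ U = ⊤

section

variable {F W : Type*} [Field F] [AddCommGroup W] [Module F W] {A : W →ₗ[F] W}

theorem aeval_comm (A : W →ₗ[F] W) (f : F[X]) (w : W) : aeval A f (A w) = A (aeval A f w) := by
  have h1 : aeval A (f * X) = aeval A (X * f) := by rw [mul_comm]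
  rw [map_mul, map_mul, aeval_X] at h1
  exact congrArg (fun T : W →ₗ[F] W => T w) h1

theorem Irr.ker (hA : Irr A) (f : F[X]) : LinearMap.ker (aeval A f) = ⊥ ∨ aeval A f = 0 := by
  rcases hA (LinearMap.ker (aeval A f)) (fun u hu => by
    rw [LinearMap.mem_ker] at hu ⊢
    rw [aeval_comm, hu, map_zero]) with h | h
  · exact Or.inl h
  · exact Or.inr (LinearMap.ker_eq_top.1 h)

theorem Irr.irreducible [FiniteDimensional F W] [Nontrivial W] (hA : Irr A) : Irreducible (minpoly F A) := by
  have hint : IsIntegral F A := Algebra.IsIntegral.isIntegral A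
  have hne : minpoly F A ≠ 0 := minpoly.ne_zero hint
  have key : ∀ a b : F[X], minpoly F A = a * b → aeval A a = 0 → IsUnit b := by
    intro a b hab ha
    have h1 : minpoly F A ∣ a := minpoly.dvd F A ha
    obtain ⟨c, hc⟩ := h1
    have h2 : minpoly F A * (c * b) = minpoly F A * 1 := by
      rw [mul_one, ← mul_assoc, ← hc, ← hab]
    exact IsUnit.of_mul_eq_one_right c (mul_left_cancel₀ hne h2)
  refine ⟨minpoly.not_isUnit F A, ?_⟩
  intro a b hab
  rcases hA.ker a with h | h
  · left
    refine key b a (by rw [hab, mul_comm]) ?_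
    have h3 : aeval A a * aeval A b = 0 := by rw [← map_mul, ← hab, minpoly.aeval]
    ext w
    have h4 : aeval A a (aeval A b w) = 0 := congrArg (fun T : W →ₗ[F] W => T w) h3
    have h5 : aeval A b w ∈ LinearMap.ker (aeval A a) := h4
    rw [h] at h5
    exact h5
  · exact Or.inr (key a b hab h)

/-- The algebra homomorphism `F[X]/(m) → End W`, `X ↦ B`. -/
noncomputable def rho {m : F[X]} (B : W →ₗ[F] W) (hB : aeval B m = 0) : AdjoinRoot m →ₐ[F] (W →ₗ[F] W) :=
  Ideal.Quotient.liftₐ (Ideal.span {m} : Ideal F[X]) (aeval B) (by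
    intro a ha
    obtain ⟨c, rfl⟩ := Ideal.mem_span_singleton'.1 ha
    rw [map_mul, hB, mul_zero])

theorem rho_mk {m : F[X]} (B : W →ₗ[F] W) (hB : aeval B m = 0) (f : F[X]) :
    rho B hB (AdjoinRoot.mk m f) = aeval B f := rfl

/-- The map `F[X]/(m) → W`, `f ↦ f(B) v`. -/
noncomputable def phi {m : F[X]} (B : W →ₗ[F] W) (hB : aeval B m = 0) (v : W) : AdjoinRoot m →ₗ[F] W where
  toFun e := rho B hB e v
  map_add' a b := by rw [map_add, LinearMap.add_apply]
  map_smul' a b := by rw [map_smul, LinearMap.smul_apply, RingHom.id_apply]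

theorem phi_apply {m : F[X]} (B : W →ₗ[F] W) (hB : aeval B m = 0) (v : W) (e : AdjoinRoot m) :
    phi B hB v e = rho B hB e v := rfl

theorem phi_injective {m : F[X]} [hm : Fact (Irreducible m)] (B : W →ₗ[F] W) (hB : aeval B m = 0) {v : W}
    (hv : v ≠ 0) : Function.Injective (phi B hB v) := by
  rw [injective_iff_map_eq_zero]
  intro e he
  by_contra hne
  apply hv
  have h1 : rho B hB (e⁻¹ * e) v = v := by
    rw [inv_mul_cancel₀ hne, map_one]; rfl
  rw [← h1, map_mul]
  change rho B hB e⁻¹ (rho B hB e v) = 0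
  have h2 : rho B hB e v = 0 := he
  rw [h2, map_zero]

variable [FiniteDimensional F W] [Nontrivial W]

/-- For an irreducible `A` the map `F[X]/(m) → W` is an isomorphism. -/
theorem Irr.phi_bijective (hA : Irr A) {v : W} (hv : v ≠ 0) :
    Function.Bijective (phi A (minpoly.aeval F A) v) := by
  have : Fact (Irreducible (minpoly F A)) := ⟨hA.irreducible⟩
  refine ⟨phi_injective A _ hv, ?_⟩
  have h1 := hA (LinearMap.range (phi A (minpoly.aeval F A) v)) (by
    rintro _ ⟨e, rfl⟩
    refine ⟨AdjoinRoot.root _ * e, ?_⟩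
    rw [phi_apply, map_mul]
    have : rho A (minpoly.aeval F A) (AdjoinRoot.root _) = A := by
      have := rho_mk A (minpoly.aeval F A) X
      rwa [aeval_X, AdjoinRoot.mk_X] at this
    rw [this]
    rfl)
  rcases h1 with h | h
  · exfalso
    apply hv
    have h2 : v ∈ LinearMap.range (phi A (minpoly.aeval F A) v) := ⟨1, by rw [phi_apply, map_one]; rfl⟩
    rw [h] at h2
    exact h2
  · exact LinearMap.range_eq_top.1 h

/-- Two operators with the same irreducible polynomial are conjugate. -/
theorem Irr.exists_equiv (hA : Irr A) {B : W →ₗ[F] W} (hB : aeval B (minpoly F A) = 0) {v : W} (hv : v ≠ 0) :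
    ∃ g : W ≃ₗ[F] W, g v = v ∧ ∀ w, g (A w) = B (g w) := by
  have : Fact (Irreducible (minpoly F A)) := ⟨hA.irreducible⟩
  let e : AdjoinRoot (minpoly F A) ≃ₗ[F] W := LinearEquiv.ofBijective _ (hA.phi_bijective hv)
  have hfin : FiniteDimensional F (AdjoinRoot (minpoly F A)) :=
    LinearEquiv.finiteDimensional e.symm
  have hfr : finrank F (AdjoinRoot (minpoly F A)) = finrank F W := e.finrank_eq
  let e' : AdjoinRoot (minpoly F A) ≃ₗ[F] W :=
    LinearEquiv.ofInjectiveOfFinrankEq _ (phi_injective B hB hv) hfr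
  have he' : ∀ x, e' x = rho B hB x v := fun x => rfl
  have he : ∀ x, e x = rho A (minpoly.aeval F A) x v := fun x => rfl
  have hroot : ∀ (C : W →ₗ[F] W) (hC : aeval C (minpoly F A) = 0) (x : AdjoinRoot (minpoly F A)),
      rho C hC (AdjoinRoot.root _ * x) v = C (rho C hC x v) := by
    intro C hC x
    rw [map_mul]
    have : rho C hC (AdjoinRoot.root _) = C := by
      have := rho_mk C hC X
      rwa [aeval_X, AdjoinRoot.mk_X] at this
    rw [this]
    rfl
  refine ⟨e.symm.trans e', ?_, ?_⟩
  · have h1 : e.symm v = 1 := by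
      rw [LinearEquiv.symm_apply_eq, he, map_one]; rfl
    rw [LinearEquiv.trans_apply, h1, he', map_one]; rfl
  · intro w
    obtain ⟨x, rfl⟩ := e.surjective w
    have h1 : A (e x) = e (AdjoinRoot.root _ * x) := by
      rw [he, he, hroot]
    rw [h1, LinearEquiv.trans_apply, LinearEquiv.trans_apply, e.symm_apply_apply, e.symm_apply_apply, he', he',
      hroot]

/-- Polynomials in `A` have all nonzero determinants. -/
theorem Irr.exists_det [Finite F] (hA : Irr A) {d : F} (hd : d ≠ 0) :
    ∃ h : W ≃ₗ[F] W, LinearMap.det (h : W →ₗ[F] W) = d ∧ ∀ w, h (A w) = A (h w) := by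
  have : Fact (Irreducible (minpoly F A)) := ⟨hA.irreducible⟩
  obtain ⟨v, hv⟩ := exists_ne (0 : W)
  let e : AdjoinRoot (minpoly F A) ≃ₗ[F] W := LinearEquiv.ofBijective _ (hA.phi_bijective hv)
  have he : ∀ x, e x = rho A (minpoly.aeval F A) x v := fun x => rfl
  have hfin : FiniteDimensional F (AdjoinRoot (minpoly F A)) :=
    LinearEquiv.finiteDimensional e.symm
  have : Finite (AdjoinRoot (minpoly F A)) := Module.finite_of_finite F
  obtain ⟨x, hx⟩ := FiniteField.norm_surjective F (AdjoinRoot (minpoly F A)) d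
  have hx0 : x ≠ 0 := by
    rintro rfl
    rw [Algebra.norm_zero] at hx
    exact hd hx.symm
  set T : W →ₗ[F] W := rho A (minpoly.aeval F A) x with hT
  have hcomm : ∀ a b : AdjoinRoot (minpoly F A), ∀ w,
      rho A (minpoly.aeval F A) a (rho A (minpoly.aeval F A) b w) = rho A (minpoly.aeval F A) (a * b) w := by
    intro a b w
    rw [map_mul]; rfl
  let h : W ≃ₗ[F] W := LinearEquiv.ofLinearMap T (rho A (minpoly.aeval F A) x⁻¹)
    (by
      ext w
      change rho A _ x (rho A _ x⁻¹ w) = w
      rw [hcomm, mul_inv_cancel₀ hx0, map_one]; rfl)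
    (by
      ext w
      change rho A _ x⁻¹ (rho A _ x w) = w
      rw [hcomm, inv_mul_cancel₀ hx0, map_one]; rfl)
  refine ⟨h, ?_, ?_⟩
  · have h1 : (h : W →ₗ[F] W) = (e : AdjoinRoot (minpoly F A) →ₗ[F] W) ∘ₗ (Algebra.lmul F _ x) ∘ₗ
        (e.symm : W →ₗ[F] AdjoinRoot (minpoly F A)) := by
      ext w
      obtain ⟨y, rfl⟩ := e.surjective w
      simp only [LinearMap.comp_apply, LinearEquiv.coe_coe, LinearEquiv.symm_apply_apply]
      change T (e y) = e (x * y)
      rw [he, he, hT, hcomm]
    rw [h1, LinearMap.det_conj]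
    exact hx
  · intro w
    have hroot : rho A (minpoly.aeval F A) (AdjoinRoot.root _) = A := by
      have := rho_mk A (minpoly.aeval F A) X
      rwa [aeval_X, AdjoinRoot.mk_X] at this
    have h1 : rho A (minpoly.aeval F A) x (rho A (minpoly.aeval F A) (AdjoinRoot.root _) w) =
        rho A (minpoly.aeval F A) (AdjoinRoot.root _) (rho A (minpoly.aeval F A) x w) := by
      rw [hcomm, hcomm, mul_comm]
    rw [hroot] at h1
    exact h1

/-- Conjugating element of determinant one. -/
theorem Irr.exists_equiv_det [Finite F] (hA : Irr A) {B : W →ₗ[F] W} (hB : aeval B (minpoly F A) = 0) :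
    ∃ g : W ≃ₗ[F] W, LinearMap.det (g : W →ₗ[F] W) = 1 ∧ ∀ w, g (A w) = B (g w) := by
  obtain ⟨v, hv⟩ := exists_ne (0 : W)
  obtain ⟨g, -, hg⟩ := hA.exists_equiv hB hv
  have hdet : LinearMap.det (g : W →ₗ[F] W) ≠ 0 := by
    have := LinearEquiv.isUnit_det' g
    exact this.ne_zero
  obtain ⟨h, hd, hh⟩ := hA.exists_det (inv_ne_zero hdet)
  refine ⟨h.trans g, ?_, ?_⟩
  · have : ((h.trans g : W ≃ₗ[F] W) : W →ₗ[F] W) = (g : W →ₗ[F] W) ∘ₗ (h : W →ₗ[F] W) := rfl
    rw [this, LinearMap.det_comp, hd, mul_inv_cancel₀ hdet]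
  · intro w
    rw [LinearEquiv.trans_apply, LinearEquiv.trans_apply, hh, hg]

end

end Cfsg.Agent.H27.Psl
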