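import Mathlib
import Cfsg.Agent.H27.Psl.Glue

/-! # Linear maps with `A ^ p = μ`: a commuting conjugate

`core` : `F` a finite field, `A` an endomorphism of the finite-dimensional `F`-space `V`, not a scalar, with
`A ^ p = μ ≠ 0`, `p` an odd prime, `p ≠ 0` in `F`. Then some conjugate `B` of `A` under an element of determinant one
commutes with `A` modulo scalars and is not a scalar multiple of `A`. -/

set_option autoImplicit false

namespace Cfsg.Agent.H27.Psl

open Polynomial Module

variable {F V : Type*} [Field F] [AddCommGroup V] [Module F V] [FiniteDimensional F V]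

/-- The conclusion. -/
def Concl (A : V →ₗ[F] V) : Prop :=
  ∃ (g : V ≃ₗ[F] V) (B : V →ₗ[F] V), LinearMap.det (g : V →ₗ[F] V) = 1 ∧ (∀ v, g (A v) = B (g v)) ∧
    (∃ c : F, ∀ v, A (B v) = c • B (A v)) ∧ ∀ c : F, ∃ v, B v ≠ c • A v

omit [FiniteDimensional F V] in
theorem Concl.smul {A : V →ₗ[F] V} (h : Concl A) {b : F} (hb : b ≠ 0) : Concl (b • A) := by
  obtain ⟨g, B, h1, h2, ⟨c, hc⟩, h4⟩ := h
  refine ⟨g, b • B, h1, ?_, ⟨c, ?_⟩, ?_⟩
  · intro v
    rw [LinearMap.smul_apply, LinearMap.smul_apply, map_smul, h2]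
  · intro v
    rw [LinearMap.smul_apply, LinearMap.smul_apply, LinearMap.smul_apply, LinearMap.smul_apply, map_smul, map_smul, hc,
      smul_comm c b, smul_comm c b]
  · intro c
    obtain ⟨v, hv⟩ := h4 c
    refine ⟨v, fun h => hv ?_⟩
    rw [LinearMap.smul_apply, LinearMap.smul_apply, smul_comm c b] at h
    exact smul_right_injective V hb h

/-- The semisimple complements. -/
theorem exists_compl {A : V →ₗ[F] V} {p : ℕ} {μ : F} (hp : (p : F) ≠ 0) (hμ : μ ≠ 0)
    (hA : ∀ v, (A ^ p) v = μ • v) {U : Submodule F V} (hU : ∀ u ∈ U, A u ∈ U) :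
    ∃ W : Submodule F V, (∀ w ∈ W, A w ∈ W) ∧ IsCompl U W := by
  have h1 : aeval A (X ^ p - C μ : F[X]) = 0 := by
    ext v
    rw [map_sub, map_pow, aeval_X, aeval_C]
    change (A ^ p) v - (algebraMap F (Module.End F V) μ) v = 0
    rw [hA, Module.algebraMap_end_apply, sub_self]
  have h2 : Module.End.IsSemisimple A :=
    Module.End.isSemisimple_of_squarefree_aeval_eq_zero (separable_X_pow_sub_C μ hp hμ).squarefree h1
  obtain ⟨W, hW, hc⟩ := Module.End.isSemisimple_iff.1 h2 U (by
    rw [Module.End.mem_invtSubmodule]; exact fun u hu => hU u hu)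
  rw [Module.End.mem_invtSubmodule] at hW
  exact ⟨W, fun w hw => hW hw, hc⟩

/-- Two eigenvectors. -/
theorem concl_diag {A : V →ₗ[F] V} {p : ℕ} {μ : F} (hp : (p : F) ≠ 0) (hodd : Odd p) (hμ : μ ≠ 0)
    (hA : ∀ v, (A ^ p) v = μ • v) {v₁ v₂ : V} {a b : F} (h1 : A v₁ = a • v₁) (h2 : A v₂ = b • v₂)
    (hv₁ : v₁ ≠ 0) (hv₂ : v₂ ≠ 0) (hab : a ≠ b) : Concl A := by
  classical
  have hpow : ∀ (k : ℕ) (v : V) (c : F), A v = c • v → (A ^ k) v = c ^ k • v := by
    intro k v c h
    induction k with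
    | zero => rw [pow_zero, pow_zero, one_smul]; rfl
    | succ k ih => rw [pow_succ, Module.End.mul_apply, h, map_smul, ih, smul_smul, pow_succ, mul_comm]
  have hap : a ^ p = μ := by
    have := hpow p v₁ a h1
    rw [hA] at this
    exact (smul_left_injective F hv₁ this).symm
  have hbp : b ^ p = μ := by
    have := hpow p v₂ b h2
    rw [hA] at this
    exact (smul_left_injective F hv₂ this).symm
  have ha0 : a ≠ 0 := by
    rintro rfl
    rw [zero_pow (by rintro rfl; exact hp Nat.cast_zero)] at hap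
    exact hμ hap.symm
  have hli : LinearIndependent F ![v₁, v₂] := by
    rw [LinearIndependent.pair_iff]
    intro s t hst
    have h3 : A (s • v₁ + t • v₂) = 0 := by rw [hst, map_zero]
    rw [map_add, map_smul, map_smul, h1, h2] at h3
    have h4 : (s * (a - b)) • v₁ = 0 := by
      have : (s * (a - b)) • v₁ = (s • a • v₁ + t • b • v₂) - b • (s • v₁ + t • v₂) := by
        module
      rw [this, h3, hst, smul_zero, sub_zero]
    have h5 : s = 0 := by
      rcases smul_eq_zero.1 h4 with h | h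
      · rcases mul_eq_zero.1 h with h | h
        · exact h
        · exact absurd (sub_eq_zero.1 h) hab
      · exact absurd h hv₁
    refine ⟨h5, ?_⟩
    rw [h5, zero_smul, zero_add] at hst
    rcases smul_eq_zero.1 hst with h | h
    · exact h
    · exact absurd h hv₂
  set U : Submodule F V := Submodule.span F (Set.range ![v₁, v₂]) with hUdef
  let bs : Basis (Fin 2) F U := Basis.span hli
  have hb0 : (bs 0 : V) = v₁ := by rw [Basis.span_apply]; rfl
  have hb1 : (bs 1 : V) = v₂ := by rw [Basis.span_apply]; rfl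
  have hU : ∀ u ∈ U, A u ∈ U := by
    intro u hu
    rw [hUdef] at hu ⊢
    induction hu using Submodule.span_induction with
    | mem x hx =>
      obtain ⟨i, rfl⟩ := hx
      fin_cases i
      · change A v₁ ∈ _
        rw [h1]
        exact Submodule.smul_mem _ _ (Submodule.subset_span ⟨0, rfl⟩)
      · change A v₂ ∈ _
        rw [h2]
        exact Submodule.smul_mem _ _ (Submodule.subset_span ⟨1, rfl⟩)
    | zero => rw [map_zero]; exact Submodule.zero_mem _
    | add x y _ _ hx hy => rw [map_add]; exact Submodule.add_mem _ hx hy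
    | smul c x _ hx => rw [map_smul]; exact Submodule.smul_mem _ _ hx
  obtain ⟨W, hW, hUW⟩ := exists_compl hp hμ hA hU
  have hA0 : A.restrict hU (bs 0) = a • bs 0 := by
    apply Subtype.ext
    rw [LinearMap.restrict_apply]
    change A (bs 0 : V) = a • (bs 0 : V)
    rw [hb0, h1]
  have hA1 : A.restrict hU (bs 1) = b • bs 1 := by
    apply Subtype.ext
    rw [LinearMap.restrict_apply]
    change A (bs 1 : V) = b • (bs 1 : V)
    rw [hb1, h2]
  let M : Matrix (Fin 2) (Fin 2) F := !![0, -1; 1, 0]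
  let N : Matrix (Fin 2) (Fin 2) F := !![0, 1; -1, 0]
  have hMN : M * N = 1 := by
    ext i j; fin_cases i <;> fin_cases j <;> simp [M, N, Matrix.mul_apply]
  have hNM : N * M = 1 := by
    ext i j; fin_cases i <;> fin_cases j <;> simp [M, N, Matrix.mul_apply]
  let g₁ : U ≃ₗ[F] U := LinearEquiv.ofLinearMap (Matrix.toLin bs bs M) (Matrix.toLin bs bs N)
    (by rw [← Matrix.toLin_mul, hMN, Matrix.toLin_one]) (by rw [← Matrix.toLin_mul, hNM, Matrix.toLin_one])
  have hg : ∀ i, g₁ (bs i) = ∑ j, M j i • bs j := fun i => Matrix.toLin_self bs bs M i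
  have hg0 : g₁ (bs 0) = bs 1 := by rw [hg, Fin.sum_univ_two]; simp [M]
  have hg1 : g₁ (bs 1) = - bs 0 := by rw [hg, Fin.sum_univ_two]; simp [M]
  let B₁ : U →ₗ[F] U := bs.constr F ![b • bs 0, a • bs 1]
  have hB0 : B₁ (bs 0) = b • bs 0 := by rw [Basis.constr_basis]; rfl
  have hB1 : B₁ (bs 1) = a • bs 1 := by rw [Basis.constr_basis]; rfl
  have hdet : LinearMap.det (g₁ : U →ₗ[F] U) = 1 := by
    change LinearMap.det (Matrix.toLin bs bs M) = 1
    rw [LinearMap.det_toLin, Matrix.det_fin_two]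
    simp [M]
  have hconj : ∀ u : U, g₁ (A.restrict hU u) = B₁ (g₁ u) := by
    have : (g₁ : U →ₗ[F] U) ∘ₗ A.restrict hU = B₁ ∘ₗ (g₁ : U →ₗ[F] U) := by
      apply bs.ext
      intro i
      fin_cases i
      · change g₁ (A.restrict hU (bs 0)) = B₁ (g₁ (bs 0))
        rw [hA0, map_smul, hg0, hB1]
      · change g₁ (A.restrict hU (bs 1)) = B₁ (g₁ (bs 1))
        rw [hA1, map_smul, hg1, map_neg, hB0, smul_neg]
    exact fun u => congrArg (fun T : U →ₗ[F] U => T u) this
  have hcomm : ∀ u : U, A.restrict hU (B₁ u) = B₁ (A.restrict hU u) := by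
    have : A.restrict hU ∘ₗ B₁ = B₁ ∘ₗ A.restrict hU := by
      apply bs.ext
      intro i
      fin_cases i
      · change A.restrict hU (B₁ (bs 0)) = B₁ (A.restrict hU (bs 0))
        rw [hA0, hB0, map_smul, map_smul, hA0, hB0, smul_comm]
      · change A.restrict hU (B₁ (bs 1)) = B₁ (A.restrict hU (bs 1))
        rw [hA1, hB1, map_smul, map_smul, hA1, hB1, smul_comm]
    exact fun u => congrArg (fun T : U →ₗ[F] U => T u) this
  obtain ⟨g, B, k1, k2, k3, k4⟩ := glue hUW hU hW g₁ hdet B₁ hconj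
  refine ⟨g, B, k1, k2, ⟨1, ?_⟩, ?_⟩
  · intro v
    rw [one_smul]
    have hv : v ∈ U ⊔ W := by rw [hUW.sup_eq_top]; trivial
    obtain ⟨u, hu, w, hw, rfl⟩ := Submodule.mem_sup.1 hv
    have h5 := k3 ⟨u, hu⟩
    have h6 := k3 (A.restrict hU ⟨u, hu⟩)
    have h7 := congrArg (Subtype.val) (hcomm ⟨u, hu⟩)
    have h8 : ((A.restrict hU (B₁ ⟨u, hu⟩) : U) : V) = A (B u) := by
      rw [LinearMap.coe_restrict_apply, ← h5]
    have h9 : ((B₁ (A.restrict hU ⟨u, hu⟩) : U) : V) = B (A u) := by
      rw [← h6, LinearMap.coe_restrict_apply]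
    rw [h8, h9] at h7
    rw [map_add, map_add, map_add, map_add, k4 w hw, k4 _ (hW w hw), h7]
  · intro c
    by_contra hcon
    push Not at hcon
    have e1 : B v₁ = b • v₁ := by
      have := k3 (bs 0)
      rw [hb0, hB0] at this
      rw [this, ← hb0]; rfl
    have e2 : B v₂ = a • v₂ := by
      have := k3 (bs 1)
      rw [hb1, hB1] at this
      rw [this, ← hb1]; rfl
    have f1 := hcon v₁
    have f2 := hcon v₂
    rw [e1, h1, smul_smul] at f1
    rw [e2, h2, smul_smul] at f2
    have f1' : b = c * a := smul_left_injective F hv₁ f1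
    have f2' : a = c * b := smul_left_injective F hv₂ f2
    have hc2 : c ^ 2 = 1 := by
      have : c ^ 2 * a = 1 * a := by
        rw [one_mul, pow_two, mul_assoc, ← f1', ← f2']
      exact mul_right_cancel₀ ha0 this
    have hcp : c ^ p = 1 := by
      have : c ^ p * a ^ p = 1 * a ^ p := by
        rw [one_mul, ← mul_pow, ← f1', hbp, hap]
      exact mul_right_cancel₀ (pow_ne_zero _ ha0) this
    have hc1 : c = 1 := by
      obtain ⟨k, hk⟩ := hodd
      rw [hk, pow_succ, pow_mul, hc2, one_pow, one_mul] at hcp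
      exact hcp
    rw [hc1, one_mul] at f1'
    exact hab f1'.symm

end Cfsg.Agent.H27.Psl
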