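import Mathlib
import Cfsg.Agent.CpAut.Psl
import Cfsg.Agent.H27.ZStar.Row

/-! # `PSL_n(F)`: field automorphisms are not isolated

* `Moves α` : some `K`-conjugate of `α` commutes with `α` and is not `α`;
* `exists_fixed` : for a field automorphism `σ` of prime order `p` with `p ∣ |PSL_n(F)|` there is a nonscalar
  `c ∈ SL_n(F)` fixed by `σ` with `c ^ p = 1`;
* `moves_fld` : `lift (fld σ)` moves. -/

set_option autoImplicit false
set_option linter.unusedSectionVars false

namespace Cfsg.Agent.H27.Psl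

open Matrix Cfsg
open Cfsg.Agent.ClassicalGeometry.AutPSL.Root
open Cfsg.Agent.ClassicalGeometry.AutPSL.Auto
open Cfsg.Agent.ClassicalGeometry.AutPSL.Main
open Cfsg.Agent.CpAut.Psl

/-- Some `K`-conjugate of `α` commutes with `α` and is not `α`. -/
def Moves {K : Type*} [Group K] (α : MulAut K) : Prop :=
  ∃ k : K, Commute α (MulAut.conj k * α * (MulAut.conj k)⁻¹) ∧ MulAut.conj k * α * (MulAut.conj k)⁻¹ ≠ α

theorem aut_mul_conj {K : Type*} [Group K] (β : MulAut K) (k : K) :
    β * MulAut.conj k = MulAut.conj (β k) * β := by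
  ext y
  simp [MulAut.conj_apply]

theorem Moves.conj {K : Type*} [Group K] {α : MulAut K} (h : Moves α) (β : MulAut K) : Moves (β * α * β⁻¹) := by
  obtain ⟨k, h1, h2⟩ := h
  have e : MulAut.conj (β k) * (β * α * β⁻¹) * (MulAut.conj (β k))⁻¹ =
      β * (MulAut.conj k * α * (MulAut.conj k)⁻¹) * β⁻¹ := by
    have h3 : MulAut.conj (β k) = β * MulAut.conj k * β⁻¹ := by
      rw [aut_mul_conj, mul_inv_cancel_right]
    rw [h3]; group
  refine ⟨β k, ?_, ?_⟩
  · rw [e, commute_iff_eq]
    calc β * α * β⁻¹ * (β * (MulAut.conj k * α * (MulAut.conj k)⁻¹) * β⁻¹)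
        = β * (α * (MulAut.conj k * α * (MulAut.conj k)⁻¹)) * β⁻¹ := by group
      _ = β * ((MulAut.conj k * α * (MulAut.conj k)⁻¹) * α) * β⁻¹ := by rw [h1.eq]
      _ = _ := by group
  · rw [e]
    intro h3
    apply h2
    calc MulAut.conj k * α * (MulAut.conj k)⁻¹
        = β⁻¹ * (β * (MulAut.conj k * α * (MulAut.conj k)⁻¹) * β⁻¹) * β := by group
      _ = β⁻¹ * (β * α * β⁻¹) * β := by rw [h3]
      _ = α := by group

theorem moves_of_fixed {K : Type*} [Group K] {φ : MulAut K} {k c : K} (hc : φ c = c) (hk : k * (φ k)⁻¹ = c)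
    (hne : MulAut.conj c ≠ 1) : Moves φ := by
  have e : MulAut.conj k * φ * (MulAut.conj k)⁻¹ = MulAut.conj c * φ := by
    rw [mul_inv_eq_iff_eq_mul, mul_assoc, aut_mul_conj, ← mul_assoc, ← map_mul, ← hk, inv_mul_cancel_right]
  refine ⟨k, ?_, ?_⟩
  · rw [e, commute_iff_eq, ← mul_assoc, aut_mul_conj, hc]
  · rw [e]
    intro h
    apply hne
    rwa [mul_eq_right] at h

/-- The degree of the fixed field of an automorphism of order `p`. -/
theorem card_fixf {F : Type*} [Field F] [Finite F] {p : ℕ} (hp : p.Prime) {σ : F ≃+* F} (ho : orderOf σ = p) :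
    Nat.card F = Nat.card ↥(fixf σ) ^ p := by
  classical
  have : Fact p.Prime := ⟨hp⟩
  let G : Subgroup (F ≃+* F) := Subgroup.zpowers σ
  have hGc : Nat.card ↥G = p := by rw [Nat.card_zpowers, ho]
  have hfin : Finite ↥G := Nat.finite_of_card_ne_zero (by rw [hGc]; exact hp.ne_zero)
  have : Fintype ↥G := Fintype.ofFinite _
  have hff : FaithfulSMul ↥G F := ⟨fun {a b} h => by
    apply Subtype.ext
    ext x
    exact h x⟩
  have h1 := FixedPoints.finrank_eq_card ↥G F
  rw [← Nat.card_eq_fintype_card, hGc] at h1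
  have h2 : FixedPoints.subfield ↥G F = fixf σ := by
    ext a
    rw [mem_fixf]
    constructor
    · intro ha
      exact ha ⟨σ, Subgroup.mem_zpowers σ⟩
    · rintro ha ⟨g, n, rfl⟩
      have h3 : ∀ n : ℕ, (σ ^ n) a = a := by
        intro n
        induction n with
        | zero => rfl
        | succ n ih => rw [pow_succ, RingAut.mul_apply, ha, ih]
      have h4 : ∀ n : ℤ, (σ ^ n) a = a := by
        intro n
        rcases Int.eq_nat_or_neg n with ⟨m, rfl | rfl⟩
        · rw [zpow_natCast]; exact h3 m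
        · rw [_root_.zpow_neg, zpow_natCast]
          show (σ ^ m).symm a = a
          rw [RingEquiv.symm_apply_eq]
          exact (h3 m).symm
      exact h4 n
  rw [h2] at h1
  have h3 := Module.natCard_eq_pow_finrank (K := ↥(fixf σ)) (V := F)
  rw [h1] at h3
  exact h3

variable {F : Type*} [Field F] [Fintype F] {n : ℕ}

theorem fld_emb (σ : F ≃+* F) (c : Matrix.SpecialLinearGroup (Fin n) ↥(fixf σ)) :
    fld σ (emb σ c) = emb σ c := by
  apply Subtype.ext
  ext i j
  rw [coe_fld_apply, coe_emb]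
  exact ((c : Matrix (Fin n) (Fin n) ↥(fixf σ)) i j).2

/-- A diagonal element. -/
theorem exists_diag {K : Type*} [Field K] (hn : 2 ≤ n) {p : ℕ} {z : K} (hz0 : z ≠ 0)
    (hz : z ^ p = 1) (h2 : z * z ≠ 1) :
    ∃ c : Matrix.SpecialLinearGroup (Fin n) K, c ^ p = 1 ∧
      ¬ ∃ r : K, scalar (Fin n) r = (c : Matrix (Fin n) (Fin n) K) := by
  let i₀ : Fin n := ⟨0, by omega⟩
  let i₁ : Fin n := ⟨1, by omega⟩
  have hi : i₁ ≠ i₀ := by
    intro h
    exact absurd (congrArg Fin.val h) one_ne_zero
  let d : Fin n → K := Function.update (Function.update (fun _ => 1) i₀ z) i₁ z⁻¹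
  have hd0 : d i₀ = z := by
    simp only [d]
    rw [Function.update_of_ne hi.symm, Function.update_self]
  have hd1 : d i₁ = z⁻¹ := by simp only [d]; rw [Function.update_self]
  have hdp : ∀ i, d i ^ p = 1 := by
    intro i
    by_cases h1 : i = i₁
    · rw [h1, hd1, inv_pow, hz, inv_one]
    by_cases h0 : i = i₀
    · rw [h0, hd0, hz]
    · simp only [d]
      rw [Function.update_of_ne h1, Function.update_of_ne h0, one_pow]
  have hdet : (Matrix.diagonal d).det = 1 := by
    rw [det_diagonal]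
    simp only [d]
    rw [Finset.prod_update_of_mem (Finset.mem_univ _), Finset.prod_update_of_mem (by simp [hi.symm]),
      Finset.prod_const_one, mul_one, inv_mul_cancel₀ hz0]
  obtain ⟨c, hc⟩ : ∃ c : Matrix.SpecialLinearGroup (Fin n) K, (c : Matrix (Fin n) (Fin n) K) = Matrix.diagonal d :=
    ⟨⟨Matrix.diagonal d, hdet⟩, rfl⟩
  refine ⟨c, ?_, ?_⟩
  · apply Subtype.ext
    rw [Matrix.SpecialLinearGroup.coe_pow, Matrix.SpecialLinearGroup.coe_one, hc, diagonal_pow]
    ext i j
    rw [diagonal_apply, one_apply]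
    split_ifs with hij
    · rw [Pi.pow_apply, hdp]
    · rfl
  · rintro ⟨r, hr⟩
    rw [hc] at hr
    have e0 := congrFun (congrFun hr i₀) i₀
    have e1 := congrFun (congrFun hr i₁) i₁
    rw [scalar_apply, diagonal_apply_eq, diagonal_apply_eq, hd0] at e0
    rw [scalar_apply, diagonal_apply_eq, diagonal_apply_eq, hd1] at e1
    apply h2
    rw [← e0]
    nth_rewrite 2 [e1]
    rw [e0, mul_inv_cancel₀ hz0]

theorem transvection_pow {K : Type*} [Field K] {i j : Fin n} (hij : i ≠ j) (b : K) (k : ℕ) :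
    (Matrix.SpecialLinearGroup.transvection hij b) ^ k = Matrix.SpecialLinearGroup.transvection hij (k * b) := by
  induction k with
  | zero => rw [pow_zero, Nat.cast_zero, zero_mul, Matrix.SpecialLinearGroup.transvection_coeff_zero]
  | succ k ih =>
    rw [pow_succ, ih, ← Matrix.SpecialLinearGroup.transvection_add]
    congr 1
    push_cast; ring

/-- **A nonscalar element of order `p` over the fixed field.** -/
theorem exists_fixed (hn : 2 ≤ n) {p : ℕ} (hp : p.Prime) (hp2 : p ≠ 2) {σ : F ≃+* F} (ho : orderOf σ = p)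
    (hdvd : p ∣ Nat.card (Matrix.ProjectiveSpecialLinearGroup (Fin n) F)) :
    ∃ c : Matrix.SpecialLinearGroup (Fin n) F, fld σ c = c ∧ c ^ p = 1 ∧
      ¬ ∃ r : F, scalar (Fin n) r = (c : Matrix (Fin n) (Fin n) F) := by
  classical
  have hfp : Fact p.Prime := ⟨hp⟩
  suffices h : ∃ c : Matrix.SpecialLinearGroup (Fin n) ↥(fixf σ), c ^ p = 1 ∧
      ¬ ∃ r : ↥(fixf σ), scalar (Fin n) r = (c : Matrix (Fin n) (Fin n) ↥(fixf σ)) by
    obtain ⟨c, h1, h2⟩ := h
    refine ⟨emb σ c, fld_emb σ c, by rw [← map_pow, h1, map_one], ?_⟩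
    rintro ⟨r, hr⟩
    apply h2
    let i₀ : Fin n := ⟨0, by omega⟩
    refine ⟨(c : Matrix (Fin n) (Fin n) ↥(fixf σ)) i₀ i₀, ?_⟩
    have e0 := congrFun (congrFun hr i₀) i₀
    rw [scalar_apply, diagonal_apply_eq, coe_emb] at e0
    ext i j
    have e1 := congrFun (congrFun hr i) j
    rw [scalar_apply, coe_emb] at e1
    rw [scalar_apply, ← e1, diagonal_apply, diagonal_apply]
    split_ifs
    · exact e0.symm
    · rfl
  set F₀ := ↥(fixf σ) with hF₀
  have : Finite F₀ := inferInstance
  have : Fintype F₀ := Fintype.ofFinite _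
  have hcard : Fintype.card F = Fintype.card F₀ ^ p := by
    rw [← Nat.card_eq_fintype_card, ← Nat.card_eq_fintype_card]
    exact card_fixf hp ho
  have hchar : ((p : F₀) = 0) ↔ ((p : F) = 0) := by
    have h0 : (algebraMap F₀ F) (p : F₀) = (p : F) := map_natCast _ p
    rw [← h0, map_eq_zero]
  by_cases hpF : (p : F₀) = 0
  · -- characteristic `p`
    have hij : (⟨0, by omega⟩ : Fin n) ≠ ⟨1, by omega⟩ := by
      intro h
      exact absurd (congrArg Fin.val h) zero_ne_one
    refine ⟨Matrix.SpecialLinearGroup.transvection hij 1, ?_, ?_⟩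
    · rw [transvection_pow, hpF, zero_mul, Matrix.SpecialLinearGroup.transvection_coeff_zero]
    · rintro ⟨r, hr⟩
      have e1 := congrFun (congrFun hr ⟨0, by omega⟩) ⟨1, by omega⟩
      rw [scalar_apply, diagonal_apply_ne _ hij, Matrix.SpecialLinearGroup.transvection_coe] at e1
      simp [hij] at e1
  · -- `p` is not the characteristic
    have hpF' : (p : F) ≠ 0 := fun h => hpF (hchar.2 h)
    have hq0 : ¬ p ∣ Fintype.card F := by
      intro h
      obtain ⟨r, hr⟩ := CharP.exists F
      have hrp : r.Prime := CharP.char_is_prime F r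
      obtain ⟨m, -, hm⟩ := FiniteField.card F r
      rw [hm] at h
      have h3 := (Nat.prime_dvd_prime_iff_eq hp hrp).1 (hp.dvd_of_dvd_pow h)
      exact hpF' (by rw [h3]; exact CharP.cast_eq_zero F r)
    -- `p ∣ |GL_n(F)|`
    have h1 : p ∣ Nat.card (GL (Fin n) F) := by
      have h2 : Nat.card (Matrix.ProjectiveSpecialLinearGroup (Fin n) F) ∣
          Nat.card (Matrix.SpecialLinearGroup (Fin n) F) :=
        Subgroup.card_quotient_dvd_card _
      have h3 : Nat.card (Matrix.SpecialLinearGroup (Fin n) F) ∣ Nat.card (GL (Fin n) F) :=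
        Subgroup.card_dvd_of_injective (Matrix.SpecialLinearGroup.toGL) Matrix.SpecialLinearGroup.toGL_injective
      exact hdvd.trans (h2.trans h3)
    rw [Matrix.card_GL_field, Prime.dvd_finsetProd_iff hp.prime] at h1
    obtain ⟨i, -, hi⟩ := h1
    have hi2 : Fintype.card F ^ n - Fintype.card F ^ (i : ℕ) =
        Fintype.card F ^ (i : ℕ) * (Fintype.card F ^ (n - i) - 1) := by
      rw [Nat.mul_sub, mul_one, ← pow_add, Nat.add_sub_cancel' i.2.le]
    rw [hi2, hp.dvd_mul] at hi
    rcases hi with hi | hi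
    · exact absurd (hp.dvd_of_dvd_pow hi) hq0
    have hi3 : p ∣ Fintype.card F₀ ^ (n - i) - 1 := by
      have hpos : 1 ≤ Fintype.card F₀ ^ (n - (i : ℕ)) := Nat.one_le_pow _ _ Fintype.card_pos
      have hpos' : 1 ≤ Fintype.card F ^ (n - (i : ℕ)) := Nat.one_le_pow _ _ Fintype.card_pos
      rw [← Nat.modEq_iff_dvd' hpos'] at hi
      rw [← Nat.modEq_iff_dvd' hpos]
      refine hi.trans ?_
      rw [hcard, ← pow_mul, mul_comm, pow_mul]
      have := Int.ModEq.pow_prime_eq_self hp ((Fintype.card F₀ ^ (n - (i : ℕ)) : ℕ) : ℤ)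
      rw [← Int.natCast_modEq_iff]
      push_cast at this ⊢
      exact this
    have h4 : p ∣ Nat.card (GL (Fin n) F₀) := by
      rw [Matrix.card_GL_field]
      refine dvd_trans ?_ (Finset.dvd_prod_of_mem _ (Finset.mem_univ i))
      have hi4 : Fintype.card F₀ ^ n - Fintype.card F₀ ^ (i : ℕ) =
          Fintype.card F₀ ^ (i : ℕ) * (Fintype.card F₀ ^ (n - i) - 1) := by
        rw [Nat.mul_sub, mul_one, ← pow_add, Nat.add_sub_cancel' i.2.le]
      rw [hi4]
      exact Dvd.dvd.mul_left hi3 _
    by_cases hq : p ∣ Fintype.card F₀ - 1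
    · obtain ⟨ζ, hζ⟩ := exists_prime_orderOf_dvd_card (G := F₀ˣ) p (by rwa [Fintype.card_units])
      have hζp : (ζ : F₀) ^ p = 1 := by
        rw [← Units.val_pow_eq_pow_val, ← hζ, pow_orderOf_eq_one, Units.val_one]
      refine exists_diag hn (Units.ne_zero ζ) hζp ?_
      intro h
      have h5 : ζ ^ 2 = 1 := by
        apply Units.ext
        apply Subtype.ext
        rw [pow_two, Units.val_mul, Units.val_one, ← h]
      have h6 := orderOf_dvd_of_pow_eq_one h5
      rw [hζ] at h6
      rcases (Nat.dvd_prime Nat.prime_two).1 h6 with h7 | h7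
      · exact hp.one_lt.ne' h7
      · exact hp2 h7
    · obtain ⟨g, hg⟩ := exists_prime_orderOf_dvd_card' (G := GL (Fin n) F₀) p h4
      have hgp : g ^ p = 1 := by rw [← hg, pow_orderOf_eq_one]
      have hunit : ∀ z : F₀, z ^ p = 1 → z = 1 := by
        intro z hz
        have hz0 : z ≠ 0 := by
          rintro rfl
          rw [zero_pow hp.ne_zero] at hz
          exact zero_ne_one hz
        have h6 := Nat.dvd_gcd (orderOf_dvd_of_pow_eq_one hz)
          (orderOf_dvd_of_pow_eq_one (FiniteField.pow_card_sub_one_eq_one z hz0))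
        rw [((Nat.Prime.coprime_iff_not_dvd hp).2 hq).gcd_eq_one, Nat.dvd_one, orderOf_eq_one_iff] at h6
        exact h6
      have hdet : (g : Matrix (Fin n) (Fin n) F₀).det = 1 := by
        apply hunit
        rw [← det_pow, ← Units.val_pow_eq_pow_val, hgp, Units.val_one, det_one]
      obtain ⟨c, hc⟩ : ∃ c : Matrix.SpecialLinearGroup (Fin n) F₀,
          (c : Matrix (Fin n) (Fin n) F₀) = (g : Matrix (Fin n) (Fin n) F₀) := ⟨⟨_, hdet⟩, rfl⟩
      have hcp : c ^ p = 1 := by
        apply Subtype.ext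
        rw [Matrix.SpecialLinearGroup.coe_pow, Matrix.SpecialLinearGroup.coe_one, hc, ← Units.val_pow_eq_pow_val,
          hgp, Units.val_one]
      refine ⟨c, hcp, ?_⟩
      rintro ⟨r, hr⟩
      have hr1 : r = 1 := by
        apply hunit
        have h7 : (scalar (Fin n) r) ^ p = 1 := by
          rw [hr, ← Matrix.SpecialLinearGroup.coe_pow, hcp, Matrix.SpecialLinearGroup.coe_one]
        rw [← map_pow] at h7
        have h8 := congrFun (congrFun h7 ⟨0, by omega⟩) ⟨0, by omega⟩
        rw [scalar_apply, diagonal_apply_eq, one_apply_eq] at h8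
        exact h8
      have hg1 : g = 1 := by
        apply Units.ext
        rw [← hc, ← hr, hr1, map_one, Units.val_one]
      rw [hg1, orderOf_one] at hg
      exact hp.one_lt.ne hg

theorem perm_pow (C : GL (Fin n) F) {σ : F ≃+* F} (hC : fgl σ C = C) (k : ℕ) :
    perm C σ ^ k = perm (C ^ k) (σ ^ k) := by
  induction k with
  | zero =>
    rw [pow_zero, pow_zero, pow_zero]
    ext1 v
    rw [perm_apply, Units.val_one, one_mulVec]
    rfl
  | succ k ih =>
    have hCk : ∀ k : ℕ, fgl (σ ^ k) C = C := by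
      intro k
      induction k with
      | zero => exact fgl_one C
      | succ k ih2 =>
        have : fgl (σ ^ (k + 1)) C = fgl (σ ^ k) (fgl σ C) := by
          apply Units.ext
          ext i j
          rw [pow_succ]
          rfl
        rw [this, hC, ih2]
    rw [pow_succ, ih, perm_mul, hCk, pow_succ, pow_succ]

/-- **Field automorphisms of prime order are not isolated.** -/
theorem moves_fld (hn : 2 ≤ n) {p : ℕ} (hp : p.Prime) (hp2 : p ≠ 2) {σ : F ≃+* F} (ho : orderOf σ = p)
    (hdvd : p ∣ Nat.card (Matrix.ProjectiveSpecialLinearGroup (Fin n) F)) :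
    Moves (lift (fld σ) : MulAut (Matrix.ProjectiveSpecialLinearGroup (Fin n) F)) := by
  have : Nontrivial (Fin n) := Fin.nontrivial_iff_two_le.2 hn
  obtain ⟨c, hc1, hc2, hc3⟩ := exists_fixed hn hp hp2 ho hdvd
  set C : GL (Fin n) F := Matrix.SpecialLinearGroup.toGL c with hC
  have hCc : (C : Matrix (Fin n) (Fin n) F) = c := rfl
  have hCfix : fgl σ C = C := by
    apply Units.ext
    rw [coe_fgl, hCc]
    ext i j
    have := congrArg (fun g : Matrix.SpecialLinearGroup (Fin n) F => (g : Matrix (Fin n) (Fin n) F) i j) hc1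
    simpa [coe_fld_apply] using this
  have hCp : C ^ p = 1 := by rw [hC, ← map_pow, hc2, map_one]
  have hσp : σ ^ p = 1 := by rw [← ho, pow_orderOf_eq_one]
  have hperm : perm C σ ^ p = 1 := by
    rw [perm_pow C hCfix, hCp, hσp]
    ext1 v
    rw [perm_apply, Units.val_one, one_mulVec]
    rfl
  obtain ⟨B, hB⟩ := perm_conj ho hp.pos hperm
  -- correct the determinant
  have hdetB : (B : Matrix (Fin n) (Fin n) F).det ≠ 0 := by
    have := (Matrix.isUnit_iff_isUnit_det _).1 (Units.isUnit B)
    exact this.ne_zero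
  have hσdet : σ ((B : Matrix (Fin n) (Fin n) F).det) = (B : Matrix (Fin n) (Fin n) F).det := by
    have h1 := congrArg (fun g : GL (Fin n) F => (g : Matrix (Fin n) (Fin n) F).det) hB
    simp only [Units.val_mul, det_mul, hCc, Matrix.SpecialLinearGroup.det_coe, one_mul] at h1
    rw [coe_fgl] at h1
    have h2 : ((B : Matrix (Fin n) (Fin n) F).map σ).det = σ ((B : Matrix (Fin n) (Fin n) F).det) := by
      have := RingHom.map_det (σ : F →+* F) (B : Matrix (Fin n) (Fin n) F)
      rw [RingHom.mapMatrix_apply] at this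
      exact this.symm
    rwa [h2] at h1
  set d := (B : Matrix (Fin n) (Fin n) F).det with hd
  let i₀ : Fin n := ⟨0, by omega⟩
  let D : Matrix (Fin n) (Fin n) F := Matrix.diagonal (Function.update (fun _ => 1) i₀ d⁻¹)
  have hDdet : D.det = d⁻¹ := by
    simp only [D]
    rw [det_diagonal, Finset.prod_update_of_mem (Finset.mem_univ _), Finset.prod_const_one, mul_one]
  have hDσ : D.map σ = D := by
    simp only [D]
    rw [diagonal_map (map_zero σ)]
    congr 1
    ext i
    by_cases hi : i = i₀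
    · rw [hi, Function.update_self, map_inv₀, hσdet]
    · rw [Function.update_of_ne hi, map_one]
  obtain ⟨g, hg⟩ : ∃ g : Matrix.SpecialLinearGroup (Fin n) F,
      (g : Matrix (Fin n) (Fin n) F) = (B : Matrix (Fin n) (Fin n) F) * D := by
    refine ⟨⟨(B : Matrix (Fin n) (Fin n) F) * D, ?_⟩, rfl⟩
    rw [det_mul, hDdet, ← hd, mul_inv_cancel₀ hdetB]
  have hcg : c * fld σ g = g := by
    apply Subtype.ext
    rw [Matrix.SpecialLinearGroup.coe_mul]
    have h1 : ((fld σ g : Matrix.SpecialLinearGroup (Fin n) F) : Matrix (Fin n) (Fin n) F) =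
        (fgl σ B : Matrix (Fin n) (Fin n) F) * D := by
      have h2 : ((fld σ g : Matrix.SpecialLinearGroup (Fin n) F) : Matrix (Fin n) (Fin n) F) =
          (g : Matrix (Fin n) (Fin n) F).map (σ : F →+* F) := by
        ext i j
        rw [coe_fld_apply]; rfl
      rw [h2, hg, Matrix.map_mul, coe_fgl]
      congr 1
    rw [h1, ← Matrix.mul_assoc, ← hCc, ← Units.val_mul, hB, hg]
  refine moves_of_fixed (k := pr g) (c := pr c) ?_ ?_ ?_
  · rw [lift_pr, hc1]
  · rw [lift_pr, ← map_inv, ← map_mul]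
    congr 1
    rw [mul_inv_eq_iff_eq_mul]
    exact hcg.symm
  · intro h1
    apply hc3
    have h2 : lift (cj C * fld (1 : F ≃+* F)) = lift (fld (1 : F ≃+* F)) := by
      rw [map_one fld, mul_one, map_one, ← h1]
      apply MulEquiv.ext
      intro y
      obtain ⟨y, rfl⟩ := pr_surjective y
      rw [lift_pr, MulAut.conj_apply, ← map_mul, ← map_inv, ← map_mul]
      congr 1
    exact (injective_aux h2).1

end Cfsg.Agent.H27.Psl
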