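import Mathlib
import Cfsg.Agent.H27.Psl.Core

/-! # Linear maps of order `p` in characteristic `p`: the conclusion `Concl` -/

set_option autoImplicit false
set_option linter.unusedSectionVars false

namespace Cfsg.Agent.H27.Psl

open Module

variable {F V : Type*} [Field F] [AddCommGroup V] [Module F V] [FiniteDimensional F V]

/-- The transvection case. -/
theorem concl_of_notMem {T : V →ₗ[F] V} {v₀ u : V} (hv₀ : T v₀ = v₀) (hv : v₀ ≠ 0)
    (hu : T u - u ∉ LinearMap.range ((T - 1) * (T - 1)) ⊔ F ∙ v₀) : Concl T := by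
  obtain ⟨φ, hφu, hφ⟩ := Submodule.exists_le_ker_of_notMem hu
  have hφ0 : φ v₀ = 0 := hφ (Submodule.mem_sup_right (Submodule.mem_span_singleton_self v₀))
  have hφN : ∀ w, φ (T (T w) - T w - (T w - w)) = 0 := by
    intro w
    have h1 : T (T w) - T w - (T w - w) ∈ LinearMap.range ((T - 1) * (T - 1)) := by
      refine ⟨w, ?_⟩
      simp only [Module.End.mul_apply, LinearMap.sub_apply, Module.End.one_apply, map_sub]
    exact hφ (Submodule.mem_sup_left h1)
  set t : V ≃ₗ[F] V := LinearEquiv.transvection hφ0 with ht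
  have htv : ∀ w, t w = w + φ w • v₀ := fun w => LinearEquiv.transvection.apply hφ0 w
  refine ⟨t, T + LinearMap.smulRight (φ ∘ₗ (T - 1)) v₀, ?_, ?_, ⟨1, ?_⟩, ?_⟩
  · rw [← LinearEquiv.coe_det, ht, LinearEquiv.transvection.det_eq_one hφ0, Units.val_one]
  · intro w
    simp only [htv, LinearMap.add_apply, LinearMap.smulRight_apply, LinearMap.comp_apply, LinearMap.sub_apply,
      Module.End.one_apply, map_add, map_smul, hv₀, map_sub, hφ0]
    module
  · intro w
    have h1 := hφN w
    simp only [map_sub] at h1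
    simp only [LinearMap.add_apply, LinearMap.smulRight_apply, LinearMap.comp_apply, LinearMap.sub_apply,
      Module.End.one_apply, map_add, map_smul, hv₀, map_sub, one_smul]
    have h2 : φ (T (T w)) - φ (T w) = φ (T w) - φ w := by linear_combination h1
    rw [h2]
  · intro c
    by_contra hcon
    push Not at hcon
    have h1 := hcon v₀
    simp only [LinearMap.add_apply, LinearMap.smulRight_apply, LinearMap.comp_apply, LinearMap.sub_apply,
      Module.End.one_apply, hv₀, sub_self, map_zero, zero_smul, add_zero] at h1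
    have hc : c = 1 := by
      have h2 : (1 - c) • v₀ = 0 := by rw [sub_smul, one_smul, ← h1, sub_self]
      rcases smul_eq_zero.1 h2 with h3 | h3
      · linear_combination -h3
      · exact absurd h3 hv
    have h3 := hcon u
    simp only [LinearMap.add_apply, LinearMap.smulRight_apply, LinearMap.comp_apply, LinearMap.sub_apply,
      Module.End.one_apply, hc, one_smul, add_eq_left] at h3
    rcases smul_eq_zero.1 h3 with h4 | h4
    · exact hφu h4
    · exact hv h4

/-- The two-dimensional case. -/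
theorem concl_of_two {T : V →ₗ[F] V} {v₀ u : V} (hTv : T v₀ = v₀) (hTu : T u = u + v₀) (hv : v₀ ≠ 0)
    (hspan : ∀ w : V, ∃ a b : F, w = a • v₀ + b • u) (hs : finrank F V = 2 → ∃ s : F, s ≠ 0 ∧ s * s ≠ 1) :
    Concl T := by
  have hli : LinearIndependent F ![v₀, u] := by
    rw [LinearIndependent.pair_iff]
    intro a b hab
    have h1 := congrArg T hab
    rw [map_add, map_smul, map_smul, hTv, hTu, map_zero, smul_add, ← add_assoc, hab, zero_add] at h1
    have hb : b = 0 := (smul_eq_zero.1 h1).resolve_right hv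
    rw [hb, zero_smul, add_zero] at hab
    exact ⟨(smul_eq_zero.1 hab).resolve_right hv, hb⟩
  have hsp : ⊤ ≤ Submodule.span F (Set.range ![v₀, u]) := by
    intro w _
    obtain ⟨a, b, rfl⟩ := hspan w
    refine Submodule.add_mem _ (Submodule.smul_mem _ _ (Submodule.subset_span ⟨0, rfl⟩))
      (Submodule.smul_mem _ _ (Submodule.subset_span ⟨1, rfl⟩))
  let b : Basis (Fin 2) F V := Basis.mk hli hsp
  have hb0 : b 0 = v₀ := by simp [b]
  have hb1 : b 1 = u := by simp [b]
  obtain ⟨s, hs0, hs1⟩ := hs (by rw [finrank_eq_card_basis b, Fintype.card_fin])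
  let D : Matrix (Fin 2) (Fin 2) F := Matrix.diagonal ![s, s⁻¹]
  let D' : Matrix (Fin 2) (Fin 2) F := Matrix.diagonal ![s⁻¹, s]
  have hDD' : D * D' = 1 := by
    rw [Matrix.diagonal_mul_diagonal, ← Matrix.diagonal_one]
    congr 1
    funext i
    fin_cases i
    · exact mul_inv_cancel₀ hs0
    · exact inv_mul_cancel₀ hs0
  have hD'D : D' * D = 1 := by
    rw [Matrix.diagonal_mul_diagonal, ← Matrix.diagonal_one]
    congr 1
    funext i
    fin_cases i
    · exact inv_mul_cancel₀ hs0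
    · exact mul_inv_cancel₀ hs0
  let g : V ≃ₗ[F] V := LinearEquiv.ofLinearMap (Matrix.toLin b b D) (Matrix.toLin b b D')
    (by rw [← Matrix.toLin_mul, hDD', Matrix.toLin_one]) (by rw [← Matrix.toLin_mul, hD'D, Matrix.toLin_one])
  have hgl : (g : V →ₗ[F] V) = Matrix.toLin b b D := by
    ext v; rfl
  have hg : ∀ v, g v = Matrix.toLin b b D v := fun v => rfl
  have hg0 : g v₀ = s • v₀ := by
    rw [hg, ← hb0, Matrix.toLin_self, Fin.sum_univ_two]
    simp [D, hb0]
  have hg1 : g u = s⁻¹ • u := by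
    rw [hg, ← hb1, Matrix.toLin_self, Fin.sum_univ_two]
    simp [D, hb1]
  have hBv : ∀ w, (1 + (s * s) • (T - 1) : V →ₗ[F] V) w = w + (s * s) • (T w - w) := fun w => rfl
  refine ⟨g, 1 + (s * s) • (T - 1), ?_, ?_, ⟨1, ?_⟩, ?_⟩
  · rw [hgl, LinearMap.det_toLin, Matrix.det_diagonal, Fin.prod_univ_two]
    exact mul_inv_cancel₀ hs0
  · intro w
    obtain ⟨x, y, rfl⟩ := hspan w
    rw [hBv]
    simp only [map_add, map_smul, hTv, hTu, hg0, hg1, smul_add, smul_smul]
    have e1 : s * s * (y * s⁻¹) = y * s := by field_simp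
    have e2 : ∀ z w : V, z + w - z = w := fun z w => by abel
    have e3 : x • s • v₀ + (y * s⁻¹) • u + ((s * s) • (x • s • v₀ + ((y * s⁻¹) • u + (y * s⁻¹) • v₀) -
        (x • s • v₀ + (y * s⁻¹) • u))) = x • s • v₀ + (y * s⁻¹) • u + (s * s * (y * s⁻¹)) • v₀ := by module
    simp only [smul_smul] at e3
    rw [e3, e1]
    module
  · intro w
    rw [hBv, hBv, one_smul]
    simp only [map_add, map_smul, map_sub]
  · intro c
    by_contra hcon
    push Not at hcon
    have h1 := hcon v₀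
    rw [hBv, hTv, sub_self, smul_zero, add_zero] at h1
    have hc : c = 1 := by
      have h2 : (1 - c) • v₀ = 0 := by rw [sub_smul, one_smul, ← h1, sub_self]
      rcases smul_eq_zero.1 h2 with h3 | h3
      · linear_combination -h3
      · exact absurd h3 hv
    have h3 := hcon u
    rw [hBv, hTu, hc, one_smul, add_sub_cancel_left, add_right_inj] at h3
    apply hs1
    have h4 : (s * s - 1) • v₀ = 0 := by rw [sub_smul, one_smul, h3, sub_self]
    rcases smul_eq_zero.1 h4 with h5 | h5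
    · linear_combination h5
    · exact absurd h5 hv

/-- **Elements of order `p` in characteristic `p`.** -/
theorem concl_unip {p : ℕ} [hp : Fact p.Prime] [CharP F p] {T : V →ₗ[F] V} (hT : T ^ p = 1) (hT1 : T ≠ 1)
    (hs : finrank F V = 2 → ∃ s : F, s ≠ 0 ∧ s * s ≠ 1) : Concl T := by
  by_cases h : ∃ v₀ u : V, T v₀ = v₀ ∧ v₀ ≠ 0 ∧ T u - u ∉ LinearMap.range ((T - 1) * (T - 1)) ⊔ F ∙ v₀
  · obtain ⟨v₀, u, h1, h2, h3⟩ := h
    exact concl_of_notMem h1 h2 h3
  push Not at h
  obtain ⟨N, hN⟩ : ∃ N : Module.End F V, N = T - 1 := ⟨_, rfl⟩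
  have hNw : ∀ w, N w = T w - w := fun w => by rw [hN]; rfl
  rw [← hN] at h
  have hN0 : N ≠ 0 := by
    intro h0
    rw [hN, sub_eq_zero] at h0
    exact hT1 h0
  obtain ⟨w₁, hw₁⟩ : ∃ w, N w ≠ 0 := by
    by_contra hcon
    push Not at hcon
    exact hN0 (LinearMap.ext hcon)
  have hnt : Nontrivial V := ⟨_, _, hw₁⟩
  have hchar : CharP (Module.End F V) p :=
    charP_of_injective_algebraMap (algebraMap F (Module.End F V)).injective p
  have hNp : N ^ p = 0 := by
    rw [hN, sub_pow_char_of_commute (p := p) (h := Commute.one_right (T : Module.End F V))]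
    rw [one_pow]
    exact sub_eq_zero.2 hT
  classical
  have hex : ∃ m, N ^ m = 0 := ⟨p, hNp⟩
  obtain ⟨m, hm⟩ : ∃ m, Nat.find hex = m + 1 := by
    refine Nat.exists_eq_succ_of_ne_zero ?_
    intro h0
    have h1 := Nat.find_spec hex
    rw [h0, pow_zero] at h1
    exact one_ne_zero h1
  have hm1 : N ^ (m + 1) = 0 := by rw [← hm]; exact Nat.find_spec hex
  have hm2 : N ^ m ≠ 0 := Nat.find_min hex (by omega)
  obtain ⟨w₂, hw₂⟩ : ∃ w, (N ^ m) w ≠ 0 := by
    by_contra hcon
    push Not at hcon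
    exact hm2 (LinearMap.ext hcon)
  have hker : ∀ w, N w = 0 ↔ T w = w := by
    intro w
    rw [hNw, sub_eq_zero]
  have hm0 : m ≠ 0 := by
    rintro rfl
    rw [zero_add, pow_one] at hm1
    exact hN0 hm1
  have hm3 : m = 1 := by
    by_contra hm4
    obtain ⟨k, rfl⟩ : ∃ k, m = k + 2 := ⟨m - 2, by omega⟩
    have h1 : N ((N ^ (k + 2)) w₂) = 0 := by
      rw [← Module.End.mul_apply, ← pow_succ', hm1]; rfl
    have h2 : (N ^ (k + 2)) w₂ ∈ LinearMap.range (N * N) := by
      refine ⟨(N ^ k) w₂, ?_⟩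
      rw [← Module.End.mul_apply, ← pow_two, ← pow_add, add_comm 2 k]
    have h3 : ∀ w, N w ∈ LinearMap.range (N * N) := by
      intro w
      have h4 := h _ w ((hker _).1 h1) hw₂
      rw [← hNw] at h4
      refine (sup_le le_rfl ?_ : LinearMap.range (N * N) ⊔ F ∙ (N ^ (k + 2)) w₂ ≤ _) h4
      rwa [Submodule.span_singleton_le_iff_mem]
    obtain ⟨w₃, hw₃⟩ := h3 w₂
    apply hw₂
    rw [pow_succ, Module.End.mul_apply, ← hw₃, ← Module.End.mul_apply, ← pow_two, ← pow_add]
    have : k + 1 + 2 = k + 2 + 1 := by omega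
    rw [this, hm1]; rfl
  rw [hm3, one_add_one_eq_two] at hm1
  have hNN : N * N = 0 := by rw [← pow_two, hm1]
  have hNN' : ∀ w, N (N w) = 0 := fun w => by rw [← Module.End.mul_apply, hNN]; rfl
  have hrange : ∀ v₀ : V, N v₀ = 0 → v₀ ≠ 0 → ∀ w, ∃ a : F, N w = a • v₀ := by
    intro v₀ h1 h2 w
    have h3 := h v₀ w ((hker _).1 h1) h2
    rw [hNN, LinearMap.range_zero, bot_sup_eq, ← hNw, Submodule.mem_span_singleton] at h3
    obtain ⟨a, ha⟩ := h3
    exact ⟨a, ha.symm⟩
  refine concl_of_two (v₀ := N w₁) (u := w₁) ((hker _).1 (hNN' w₁)) (by rw [hNw]; abel) hw₁ ?_ hs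
  intro w
  obtain ⟨a, ha⟩ := hrange (N w₁) (hNN' w₁) hw₁ w
  by_cases hz : w - a • w₁ = 0
  · exact ⟨0, a, by rw [zero_smul, zero_add]; exact sub_eq_zero.1 hz⟩
  · obtain ⟨b, hb⟩ := hrange (w - a • w₁) (by rw [map_sub, map_smul, ha, sub_self]) hz w₁
    have hb0 : b ≠ 0 := by
      rintro rfl
      rw [zero_smul] at hb
      exact hw₁ hb
    refine ⟨b⁻¹, a, ?_⟩
    rw [hb, smul_smul, inv_mul_cancel₀ hb0, one_smul]
    abel

end Cfsg.Agent.H27.Psl
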